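import Mathlib

/-!
# Ultraproducts of commutative rings (helper5)

Ultraproducts of families of rings, of domains and of valuation rings, and the lifting of
homomorphisms out of finitely presented `ℤ`-algebras to the factors.
-/

set_option autoImplicit false
universe u

namespace Groth.Agent.H5.Ultra

variable {α : Type u} (𝒰 : Ultrafilter α) (V : α → Type u) [∀ κ, CommRing (V κ)]

/-- the ideal of families vanishing on a large set -/
def ultraIdeal : Ideal (∀ κ, V κ) where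
  carrier := {x | {κ | x κ = 0} ∈ 𝒰}
  add_mem' := by
    intro a b ha hb
    refine Filter.mem_of_superset (Filter.inter_mem ha hb) ?_
    rintro κ ⟨h1, h2⟩
    simp only [Set.mem_setOf_eq] at h1 h2 ⊢
    rw [Pi.add_apply, h1, h2, add_zero]
  zero_mem' := by
    change {κ | (0 : ∀ κ, V κ) κ = 0} ∈ 𝒰
    simp only [Pi.zero_apply, Set.setOf_true]
    exact Filter.univ_mem
  smul_mem' := by
    intro c x hx
    refine Filter.mem_of_superset hx ?_
    intro κ h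
    simp only [Set.mem_setOf_eq] at h ⊢
    rw [smul_eq_mul, Pi.mul_apply, h, mul_zero]

lemma mem_ultraIdeal (x : ∀ κ, V κ) : x ∈ ultraIdeal 𝒰 V ↔ {κ | x κ = 0} ∈ 𝒰 := Iff.rfl

/-- the ultraproduct -/
abbrev UP : Type u := (∀ κ, V κ) ⧸ ultraIdeal 𝒰 V

/-- the class of a family -/
def mk : (∀ κ, V κ) →+* UP 𝒰 V := Ideal.Quotient.mk _

lemma mk_eq_mk_iff (a b : ∀ κ, V κ) : mk 𝒰 V a = mk 𝒰 V b ↔ {κ | a κ = b κ} ∈ 𝒰 := by
  rw [mk, Ideal.Quotient.eq, mem_ultraIdeal]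
  have : {κ | (a - b) κ = 0} = {κ | a κ = b κ} := by
    ext κ
    simp only [Set.mem_setOf_eq, Pi.sub_apply, sub_eq_zero]
  rw [this]

lemma mk_eq_mk_of_eqOn (a b : ∀ κ, V κ) (S : Set α) (hS : S ∈ 𝒰) (h : ∀ κ ∈ S, a κ = b κ) :
    mk 𝒰 V a = mk 𝒰 V b := by
  rw [mk_eq_mk_iff]
  exact Filter.mem_of_superset hS h

lemma mk_surjective : Function.Surjective (mk 𝒰 V) := Ideal.Quotient.mk_surjective

instance isPrime_ultraIdeal [∀ κ, IsDomain (V κ)] : (ultraIdeal 𝒰 V).IsPrime := by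
  refine ⟨?_, ?_⟩
  · intro h
    have h1 : (1 : ∀ κ, V κ) ∈ ultraIdeal 𝒰 V := by rw [h]; trivial
    rw [mem_ultraIdeal] at h1
    have h2 : {κ | (1 : ∀ κ, V κ) κ = 0} = ∅ := by
      ext κ
      simp
    rw [h2] at h1
    exact Filter.empty_notMem _ h1
  · intro x y hxy
    rw [mem_ultraIdeal] at hxy
    have h : {κ | x κ = 0} ∪ {κ | y κ = 0} ∈ 𝒰 := by
      refine Filter.mem_of_superset hxy ?_
      intro κ h
      simpa [mul_eq_zero] using h
    exact Ultrafilter.union_mem_iff.mp h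

instance [∀ κ, IsDomain (V κ)] : IsDomain (UP 𝒰 V) :=
  Ideal.Quotient.isDomain _

instance [∀ κ, IsDomain (V κ)] [∀ κ, ValuationRing (V κ)] : ValuationRing (UP 𝒰 V) := by
  classical
  suffices h : ∀ a b : UP 𝒰 V, ∃ c, a * c = b ∨ b * c = a from @ValuationRing.mk _ _ _ ⟨h⟩
  intro a b
  obtain ⟨x, rfl⟩ := mk_surjective 𝒰 V a
  obtain ⟨y, rfl⟩ := mk_surjective 𝒰 V b
  have h : {κ | ∃ c, x κ * c = y κ} ∪ {κ | ∃ c, y κ * c = x κ} ∈ 𝒰 := by
    have e : {κ | ∃ c, x κ * c = y κ} ∪ {κ | ∃ c, y κ * c = x κ} = Set.univ := by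
      ext κ
      simp only [Set.mem_union, Set.mem_setOf_eq, Set.mem_univ, iff_true]
      obtain ⟨c, hc | hc⟩ := ValuationRing.cond (x κ) (y κ)
      · exact Or.inl ⟨c, hc⟩
      · exact Or.inr ⟨c, hc⟩
    rw [e]
    exact Filter.univ_mem
  rcases Ultrafilter.union_mem_iff.mp h with h1 | h1
  · refine ⟨mk 𝒰 V (fun κ => if hκ : ∃ c, x κ * c = y κ then hκ.choose else 0), Or.inl ?_⟩
    rw [← map_mul]
    refine mk_eq_mk_of_eqOn 𝒰 V _ _ _ h1 ?_
    intro κ hκ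
    have hκ' : ∃ c, x κ * c = y κ := hκ
    simp only [Pi.mul_apply, dif_pos hκ']
    exact hκ'.choose_spec
  · refine ⟨mk 𝒰 V (fun κ => if hκ : ∃ c, y κ * c = x κ then hκ.choose else 0), Or.inr ?_⟩
    rw [← map_mul]
    refine mk_eq_mk_of_eqOn 𝒰 V _ _ _ h1 ?_
    intro κ hκ
    have hκ' : ∃ c, y κ * c = x κ := hκ
    simp only [Pi.mul_apply, dif_pos hκ']
    exact hκ'.choose_spec

section Lift

variable {𝒰 V}

/-- **Lifting homomorphisms to the factors.** Let `R` be a finitely presented `ℤ`-algebra with a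
homomorphism `f` to the ultraproduct, and `B` a finitely generated ring with a homomorphism `ρ` to
`R` such that `f ∘ ρ` is represented by a family `Ξ` which is a ring homomorphism on the factors of a
large set. Then for a large set of indices there is a homomorphism `χ : R → V κ` with
`χ ∘ ρ = Ξ (·) κ`. -/
theorem exists_lift_hom (R : Type u) [CommRing R] [Algebra.FinitePresentation ℤ R]
    (f : R →+* UP 𝒰 V) (B : Type u) [CommRing B] [Algebra.FiniteType ℤ B] (ρ : B →+* R)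
    (Ξ : B → ∀ κ, V κ) (S₀ : Set α) (hS₀ : S₀ ∈ 𝒰)
    (hΞ : ∀ κ ∈ S₀, ∃ ξ : B →+* V κ, ∀ b, ξ b = Ξ b κ)
    (hf : ∀ b, mk 𝒰 V (Ξ b) = f (ρ b)) :
    ∃ S ∈ 𝒰, S ⊆ S₀ ∧ ∀ κ ∈ S, ∃ (χ : R →+* V κ) (ξ : B →+* V κ),
      (∀ b, ξ b = Ξ b κ) ∧ χ.comp ρ = ξ := by
  classical
  obtain ⟨n, π, hπ, hker⟩ := (inferInstance : Algebra.FinitePresentation ℤ R).out
  obtain ⟨G, hG⟩ := hker
  -- lifts of the images of the variables
  have hy : ∀ i : Fin n, ∃ y : ∀ κ, V κ, mk 𝒰 V y = f (π (MvPolynomial.X i)) := fun i =>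
    mk_surjective 𝒰 V _
  choose y hy using hy
  let e : ∀ κ, MvPolynomial (Fin n) ℤ →+* V κ := fun κ =>
    MvPolynomial.eval₂Hom (Int.castRingHom (V κ)) (fun i => y i κ)
  let E : MvPolynomial (Fin n) ℤ →+* ∀ κ, V κ := RingHom.pi e
  have hE : (mk 𝒰 V).comp E = f.comp π.toRingHom := by
    apply MvPolynomial.ringHom_ext
    · intro n
      simp
    · intro i
      have h1 : E (MvPolynomial.X i) = y i := by
        funext κ
        change e κ (MvPolynomial.X i) = y i κ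
        simp [e]
      change mk 𝒰 V (E (MvPolynomial.X i)) = f (π (MvPolynomial.X i))
      rw [h1, hy]
  have hE' : ∀ p, mk 𝒰 V (E p) = f (π p) := fun p => RingHom.congr_fun hE p
  -- the relations hold on a large set
  have hrel : ∀ p ∈ G, {κ | e κ p = 0} ∈ 𝒰 := by
    intro p hp
    have h1 : π p = 0 := by
      have : p ∈ RingHom.ker π.toRingHom := by
        rw [← hG]
        exact Ideal.subset_span hp
      exact this
    have h2 : mk 𝒰 V (E p) = mk 𝒰 V 0 := by rw [hE', h1, map_zero, map_zero]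
    rw [mk_eq_mk_iff] at h2
    exact h2
  have hS₁ : (⋂ p ∈ G, {κ | e κ p = 0}) ∈ 𝒰 := (Filter.biInter_finset_mem G).mpr hrel
  -- generators of `B`
  obtain ⟨s, hs⟩ := (inferInstance : Algebra.FiniteType ℤ B).out
  have hp : ∀ b : B, ∃ p : MvPolynomial (Fin n) ℤ, π p = ρ b := fun b => hπ _
  choose P hP using hp
  have hgen : ∀ b ∈ s, {κ | e κ (P b) = Ξ b κ} ∈ 𝒰 := by
    intro b _
    have h2 : mk 𝒰 V (E (P b)) = mk 𝒰 V (Ξ b) := by rw [hE', hP, hf]
    rw [mk_eq_mk_iff] at h2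
    exact h2
  have hS₂ : (⋂ b ∈ s, {κ | e κ (P b) = Ξ b κ}) ∈ 𝒰 := (Filter.biInter_finset_mem s).mpr hgen
  refine ⟨(⋂ p ∈ G, {κ | e κ p = 0}) ∩ (⋂ b ∈ s, {κ | e κ (P b) = Ξ b κ}) ∩ S₀,
    Filter.inter_mem (Filter.inter_mem hS₁ hS₂) hS₀, Set.inter_subset_right, ?_⟩
  rintro κ ⟨⟨h1, h2⟩, h3⟩
  obtain ⟨ξ, hξ⟩ := hΞ κ h3
  have hle : RingHom.ker π.toRingHom ≤ RingHom.ker (e κ) := by
    rw [← hG, Ideal.span_le]
    intro p hp
    have : κ ∈ {κ | e κ p = 0} := Set.mem_iInter₂.mp h1 p hp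
    exact this
  let χ : R →+* V κ := (π.toRingHom.liftOfSurjective hπ) ⟨e κ, hle⟩
  have hχ : ∀ p, χ (π p) = e κ p := fun p =>
    RingHom.liftOfSurjective_comp_apply π.toRingHom hπ ⟨e κ, hle⟩ p
  refine ⟨χ, ξ, hξ, ?_⟩
  have hagree : ∀ b ∈ s, (χ.comp ρ) b = ξ b := by
    intro b hb
    have : κ ∈ {κ | e κ (P b) = Ξ b κ} := Set.mem_iInter₂.mp h2 b hb
    change χ (ρ b) = ξ b
    rw [← hP b, hχ, hξ]
    exact this
  have := AlgHom.ext_of_adjoin_eq_top (R := ℤ) (A := B) (s := (s : Set B)) hs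
    (φ₁ := (χ.comp ρ).toIntAlgHom) (φ₂ := ξ.toIntAlgHom) (fun b hb => hagree b hb)
  ext b
  exact congrArg (fun φ : B →ₐ[ℤ] V κ => φ b) this

end Lift

end Groth.Agent.H5.Ultra
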