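import Mathlib
import Groth.Agent.Lib.Helper5.Ultra.UpA
import Groth.Agent.Lib.Helper5.Lim.Descend
import Groth.Agent.Lib.Helper5.Lim.FGSub2
import Groth.Agent.Lib.Helper5.AlgSp.FppfLocal

/-!
# Descent of valuatively detected properties along limits, via ultraproducts of valuation
rings (helper5)
-/

set_option autoImplicit false
universe u

open CategoryTheory CategoryTheory.Limits AlgebraicGeometry MorphismProperty Opposite

namespace Groth.Agent.H5.Ultra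

open Groth.Agent.H5.Lim

section Pt

variable {X Y : Scheme.{u}} [IsAffine X] [IsAffine Y] {W : Type u} [CommRing W]

/-- the `W`-point of an affine scheme given by a ring homomorphism -/
noncomputable def pt (X : Scheme.{u}) [IsAffine X] {W : Type u} [CommRing W]
    (ψ : Γ(X, ⊤) →+* W) : Spec (CommRingCat.of W) ⟶ X :=
  Spec.map (CommRingCat.ofHom ψ) ≫ X.isoSpec.inv

lemma pt_comp (f : X ⟶ Y) (ψ : Γ(X, ⊤) →+* W) :
    pt X ψ ≫ f = pt Y (ψ.comp f.appTop.hom) := by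
  unfold pt
  rw [Category.assoc, ← Scheme.isoSpec_inv_naturality, ← Category.assoc, ← Spec.map_comp]
  rfl

lemma pt_isoSpec_hom (ψ : Γ(X, ⊤) →+* W) :
    pt X ψ ≫ X.isoSpec.hom = Spec.map (CommRingCat.ofHom ψ) := by
  unfold pt
  rw [Category.assoc, Iso.inv_hom_id, Category.comp_id]

lemma exists_pt (w : Spec (CommRingCat.of W) ⟶ X) : ∃ ψ : Γ(X, ⊤) →+* W, w = pt X ψ := by
  refine ⟨(Spec.preimage (w ≫ X.isoSpec.hom)).hom, ?_⟩
  unfold pt
  rw [CommRingCat.ofHom_hom, Spec.map_preimage, Category.assoc, Iso.hom_inv_id, Category.comp_id]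

end Pt

/-- valuative detection of a property of morphisms -/
def ValDetect (P : MorphismProperty Scheme.{u}) : Prop :=
  ∀ {Z Y : Scheme.{u}} (h : Z ⟶ Y) [LocallyOfFinitePresentation h] [QuasiCompact h]
    [QuasiSeparated h],
    (∀ (W : Type u) [CommRing W] [IsDomain W] [ValuationRing W]
      (w : Spec (CommRingCat.of W) ⟶ Y), P (pullback.snd h w)) → P h

/-- finite witnesses for a property over valuation rings -/
def ValWitness (P Φ₀ : MorphismProperty Scheme.{u}) : Prop :=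
  ∀ (A₀ : Type u) [CommRing A₀] [Algebra.FiniteType ℤ A₀] {Z : Scheme.{u}}
    (h : Z ⟶ Spec (CommRingCat.of A₀)) [LocallyOfFinitePresentation h] [QuasiCompact h]
    [QuasiSeparated h] (_ : Φ₀ h) (W : Type u) [CommRing W] [IsDomain W] [ValuationRing W]
    (ρ₀ : A₀ →+* W), P (pullback.snd h (Spec.map (CommRingCat.ofHom ρ₀))) →
    ∃ (R : Subalgebra ℤ W) (_ : R.FG) (ρ : A₀ →+* R),
      R.val.toRingHom.comp ρ = ρ₀ ∧ P (pullback.snd h (Spec.map (CommRingCat.ofHom ρ)))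

section Main

variable {P Φ₀ Φ' : MorphismProperty Scheme.{u}}

/-- **Descent along limits of a valuatively detected property with finite witnesses.** -/
theorem affineSystemDescent_of_val [P.IsStableUnderBaseChange]
    [IsZariskiLocalAtTarget Φ₀] [Φ₀.IsStableUnderBaseChange] [Φ'.IsStableUnderBaseChange]
    (HΦ₀ : AffineSystemDescent Φ₀ Φ')
    (hΦ' : ∀ {X Y : Scheme.{u}} (g : X ⟶ Y), LocallyOfFinitePresentation g → QuasiCompact g →
      QuasiSeparated g → Φ' g)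
    (H1 : ValDetect P) (H2 : ValWitness P Φ₀) :
    AffineSystemDescent P
      (@LocallyOfFinitePresentation ⊓ @QuasiCompact ⊓ @QuasiSeparated ⊓ Φ₀) := by
  classical
  intro J _ _ E cE hcE _ j₁ Z₀ h₀ hΦ hP
  haveI : P.RespectsIso := MorphismProperty.IsStableUnderBaseChange.respectsIso
  haveI : Φ₀.RespectsIso := MorphismProperty.IsStableUnderBaseChange.respectsIso
  haveI : LocallyOfFinitePresentation h₀ := hΦ.1.1.1
  haveI : QuasiCompact h₀ := hΦ.1.1.2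
  haveI : QuasiSeparated h₀ := hΦ.1.2
  by_contra hne
  push Not at hne
  -- Step 0: a model over a finitely generated ring
  let ι₁ := (E.obj j₁).isoSpec
  let h₀' : Z₀ ⟶ Spec (CommRingCat.of ↑Γ(E.obj j₁, ⊤)) := h₀ ≫ ι₁.hom
  haveI : LocallyOfFinitePresentation h₀' :=
    inferInstanceAs (LocallyOfFinitePresentation (h₀ ≫ ι₁.hom))
  haveI : QuasiCompact h₀' := inferInstanceAs (QuasiCompact (h₀ ≫ ι₁.hom))
  haveI : QuasiSeparated h₀' := inferInstanceAs (QuasiSeparated (h₀ ≫ ι₁.hom))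
  have hΦ₀' : Φ₀ h₀' := (Φ₀.cancel_right_of_respectsIso h₀ ι₁.hom).mpr hΦ.2
  obtain ⟨A₀, hA₀, Z₀₀, h₀₀, gZ, hΦ₀₀, _, _, _, sq⟩ := exists_model_fgz (↑Γ(E.obj j₁, ⊤)) HΦ₀
    hΦ' h₀' hΦ₀'
  haveI : Algebra.FiniteType ℤ ↥A₀ := (Subalgebra.fg_iff_finiteType A₀).mp hA₀
  let incl : ↥A₀ →+* ↑Γ(E.obj j₁, ⊤) := algebraMap ↥A₀ ↑Γ(E.obj j₁, ⊤)
  let u₁ : E.obj j₁ ⟶ Spec (CommRingCat.of ↥A₀) := ι₁.hom ≫ Spec.map (CommRingCat.ofHom incl)
  have sq₁ : IsPullback gZ h₀ h₀₀ u₁ := by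
    have sq' : IsPullback (𝟙 Z₀) h₀ (h₀ ≫ ι₁.hom) ι₁.hom :=
      IsPullback.of_horiz_isIso ⟨by rw [Category.id_comp]⟩
    have := sq'.paste_horiz sq
    rwa [Category.id_comp] at this
  have key : ∀ {T : Scheme.{u}} (x : T ⟶ E.obj j₁),
      P (pullback.snd h₀ x) ↔ P (pullback.snd h₀₀ (x ≫ u₁)) := fun x =>
    AlgSp.prop_of_isPullback_snd_iff ((IsPullback.of_hasPullback h₀ x).paste_horiz sq₁)
  -- Step 1: reduction to a directed poset
  obtain ⟨α, _, _, _, F, hF⟩ := IsFiltered.exists_directed ((Over j₁)ᵒᵖ)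
  let G : αᵒᵖ ⥤ J := F.leftOp ⋙ Over.forget j₁
  haveI : G.Initial := inferInstanceAs (F.leftOp ⋙ Over.forget j₁).Initial
  have hcE' : IsLimit (cE.whisker G) := (Functor.Initial.isLimitWhiskerEquiv G cE).symm hcE
  let kk : α → Over j₁ := fun κ => (F.obj κ).unop
  let EE : α → Scheme.{u} := fun κ => E.obj (kk κ).left
  haveI : ∀ κ, IsAffine (EE κ) := fun κ => inferInstanceAs (IsAffine (E.obj (kk κ).left))
  -- the transition maps
  let tr : ∀ {κ κ' : α}, κ ≤ κ' → (EE κ' ⟶ EE κ) := fun {κ κ'} h =>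
    E.map (F.map (homOfLE h)).unop.left
  have tr_trans : ∀ {κ κ' κ'' : α} (h : κ ≤ κ') (h' : κ' ≤ κ''),
      tr h' ≫ tr h = tr (h.trans h') := by
    intro κ κ' κ'' h h'
    change E.map _ ≫ E.map _ = E.map _
    rw [← E.map_comp, ← Over.comp_left, ← unop_comp, ← F.map_comp]
    rfl
  have tr_hom : ∀ {κ κ' : α} (h : κ ≤ κ'), tr h ≫ E.map (kk κ).hom = E.map (kk κ').hom := by
    intro κ κ' h
    change E.map _ ≫ E.map _ = E.map _
    rw [← E.map_comp, CategoryTheory.Over.w]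
  -- the maps to the model base
  let σ : ∀ κ, ↥A₀ →+* Γ(EE κ, ⊤) := fun κ => ((E.map (kk κ).hom).appTop.hom).comp incl
  have σ_tr : ∀ {κ κ' : α} (h : κ ≤ κ'), ((tr h).appTop.hom).comp (σ κ) = σ κ' := by
    intro κ κ' h
    change ((tr h).appTop.hom).comp (((E.map (kk κ).hom).appTop.hom).comp incl) = _
    rw [← RingHom.comp_assoc, ← CommRingCat.hom_comp, ← Scheme.Hom.comp_appTop, tr_hom]
  have pt_u : ∀ (κ : α) {W : Type u} [CommRing W] (ψ : Γ(EE κ, ⊤) →+* W),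
      (pt (EE κ) ψ ≫ E.map (kk κ).hom) ≫ u₁ =
        Spec.map (CommRingCat.ofHom (ψ.comp (σ κ))) := by
    intro κ W _ ψ
    rw [pt_comp, ← Category.assoc, pt_isoSpec_hom, ← Spec.map_comp]
    rfl
  -- Step 2: the bad arcs
  have hbad : ∀ κ : α, ∃ (W : Type u) (_ : CommRing W) (_ : IsDomain W) (_ : ValuationRing W)
      (ψ : Γ(EE κ, ⊤) →+* W), ¬ P (pullback.snd h₀₀ (Spec.map (CommRingCat.ofHom (ψ.comp (σ κ))))) := by
    intro κ
    have h1 : ¬ P (pullback.snd h₀ (E.map (kk κ).hom)) := hne (kk κ).left (kk κ).hom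
    have h2 : ¬ ∀ (W : Type u) [CommRing W] [IsDomain W] [ValuationRing W]
        (w : Spec (CommRingCat.of W) ⟶ E.obj (kk κ).left),
        P (pullback.snd (pullback.snd h₀ (E.map (kk κ).hom)) w) := fun hall => h1 (H1 _ hall)
    push Not at h2
    obtain ⟨W, i1, i2, i3, w, hw⟩ := h2
    obtain ⟨ψ, rfl⟩ := exists_pt (X := EE κ) w
    refine ⟨W, i1, i2, i3, ψ, ?_⟩
    rw [← pt_u κ ψ, ← key, Lim.bc_comp_iff (P := P)]
    exact hw
  choose V i1 i2 i3 ψ hψ using hbad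
  letI : ∀ κ, CommRing (V κ) := i1
  haveI : ∀ κ, IsDomain (V κ) := i2
  haveI : ∀ κ, ValuationRing (V κ) := i3
  -- Step 3: the ultrafilter and the maps to the ultraproduct
  let 𝒰 : Ultrafilter α := Ultrafilter.of Filter.atTop
  have h𝒰 : ∀ κ, Set.Ici κ ∈ 𝒰 := fun κ => Ultrafilter.of_le Filter.atTop (Filter.mem_atTop κ)
  let Ξ : ∀ κ₀ : α, Γ(EE κ₀, ⊤) → ∀ κ, V κ := fun κ₀ x κ =>
    if h : κ₀ ≤ κ then ψ κ ((tr h).appTop.hom x) else 0
  have Ξ_pos : ∀ (κ₀ : α) (x : Γ(EE κ₀, ⊤)) (κ : α) (h : κ₀ ≤ κ),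
      Ξ κ₀ x κ = ψ κ ((tr h).appTop.hom x) := fun κ₀ x κ h => dif_pos h
  let θ : ∀ κ₀ : α, Γ(EE κ₀, ⊤) →+* UP 𝒰 V := fun κ₀ =>
    { toFun := fun x => mk 𝒰 V (Ξ κ₀ x)
      map_one' := by
        rw [← map_one (mk 𝒰 V)]
        refine mk_eq_mk_of_eqOn 𝒰 V _ _ _ (h𝒰 κ₀) fun κ hκ => ?_
        rw [Ξ_pos κ₀ _ κ hκ, map_one, map_one]
        rfl
      map_mul' := fun x y => by
        rw [← map_mul (mk 𝒰 V)]
        refine mk_eq_mk_of_eqOn 𝒰 V _ _ _ (h𝒰 κ₀) fun κ hκ => ?_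
        rw [Pi.mul_apply, Ξ_pos κ₀ _ κ hκ, Ξ_pos κ₀ _ κ hκ, Ξ_pos κ₀ _ κ hκ, map_mul, map_mul]
      map_zero' := by
        rw [← map_zero (mk 𝒰 V)]
        refine mk_eq_mk_of_eqOn 𝒰 V _ _ _ (h𝒰 κ₀) fun κ hκ => ?_
        rw [Ξ_pos κ₀ _ κ hκ, map_zero, map_zero]
        rfl
      map_add' := fun x y => by
        rw [← map_add (mk 𝒰 V)]
        refine mk_eq_mk_of_eqOn 𝒰 V _ _ _ (h𝒰 κ₀) fun κ hκ => ?_
        rw [Pi.add_apply, Ξ_pos κ₀ _ κ hκ, Ξ_pos κ₀ _ κ hκ, Ξ_pos κ₀ _ κ hκ, map_add, map_add] }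
  have θ_apply : ∀ (κ₀ : α) (x : Γ(EE κ₀, ⊤)), θ κ₀ x = mk 𝒰 V (Ξ κ₀ x) := fun _ _ => rfl
  have θ_tr : ∀ {κ₀ κ₁ : α} (h : κ₀ ≤ κ₁), (θ κ₁).comp (tr h).appTop.hom = θ κ₀ := by
    intro κ₀ κ₁ h
    ext x
    change θ κ₁ ((tr h).appTop.hom x) = θ κ₀ x
    rw [θ_apply, θ_apply]
    refine mk_eq_mk_of_eqOn 𝒰 V _ _ _ (h𝒰 κ₁) fun κ hκ => ?_
    have hκ' : κ₁ ≤ κ := hκ
    rw [Ξ_pos κ₁ _ κ hκ', Ξ_pos κ₀ _ κ (h.trans hκ'), ← tr_trans h hκ', Scheme.Hom.comp_appTop]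
    rfl
  -- Step 4: the point of the limit
  let t : ∀ κ, Spec (CommRingCat.of (UP 𝒰 V)) ⟶ EE κ := fun κ => pt (EE κ) (θ κ)
  have t_tr : ∀ {κ κ' : α} (h : κ ≤ κ'), t κ' ≫ tr h = t κ := by
    intro κ κ' h
    change pt (EE κ') (θ κ') ≫ tr h = pt (EE κ) (θ κ)
    rw [pt_comp, θ_tr]
  let s : Cone (G ⋙ E) :=
    { pt := Spec (CommRingCat.of (UP 𝒰 V))
      π :=
        { app := fun a => t a.unop
          naturality := fun a b f => by
            have hle : b.unop ≤ a.unop := leOfHom f.unop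
            have e : (G ⋙ E).map f = tr hle := by
              change E.map (F.map f.unop).unop.left = E.map (F.map (homOfLE hle)).unop.left
              rw [Subsingleton.elim f.unop (homOfLE hle)]
            have h := t_tr hle
            change 𝟙 _ ≫ t b.unop = t a.unop ≫ (G ⋙ E).map f
            rw [Category.id_comp]
            exact h.symm.trans (congrArg (fun z => t a.unop ≫ z) e.symm) } }
  let tt : Spec (CommRingCat.of (UP 𝒰 V)) ⟶ cE.pt := hcE'.lift s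
  have tt_fac : ∀ κ : α, tt ≫ cE.π.app (kk κ).left = t κ := fun κ => hcE'.fac s (op κ)
  obtain ⟨κ₀⟩ := (inferInstance : Nonempty α)
  -- Step 5: the property over the ultraproduct
  have hP₁ : P (pullback.snd h₀₀ (Spec.map (CommRingCat.ofHom ((θ κ₀).comp (σ κ₀))))) := by
    rw [← pt_u κ₀ (θ κ₀), ← key]
    have e : t κ₀ ≫ E.map (kk κ₀).hom = tt ≫ cE.π.app j₁ := by
      rw [← tt_fac, Category.assoc, cE.w]
    change P (pullback.snd h₀ (t κ₀ ≫ E.map (kk κ₀).hom))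
    rw [e]
    exact bc_of_comp h₀ _ tt hP
  -- Step 6: a finite witness and its transfer to the factors
  obtain ⟨R, hR, ρ, hρ, hPR⟩ := H2 ↥A₀ h₀₀ hΦ₀₀ (UP 𝒰 V) ((θ κ₀).comp (σ κ₀)) hP₁
  haveI : Algebra.FiniteType ℤ ↥R := (Subalgebra.fg_iff_finiteType R).mp hR
  haveI : Algebra.FinitePresentation ℤ ↥R := Algebra.FinitePresentation.of_finiteType.mp inferInstance
  obtain ⟨S, hS, hSsub, hlift⟩ := exists_lift_hom (𝒰 := 𝒰) (V := V) ↥R R.val.toRingHom ↥A₀ ρ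
    (fun b => Ξ κ₀ (σ κ₀ b)) (Set.Ici κ₀) (h𝒰 κ₀)
    (fun κ hκ => ⟨(ψ κ).comp (((tr (show κ₀ ≤ κ from hκ)).appTop.hom).comp (σ κ₀)), fun b => by
      rw [Ξ_pos κ₀ _ κ hκ]
      rfl⟩)
    (fun b => by
      have := RingHom.congr_fun hρ b
      rw [← θ_apply]
      exact this.symm)
  obtain ⟨κ, hκS⟩ := Filter.nonempty_of_mem hS
  have hκ : κ₀ ≤ κ := hSsub hκS
  obtain ⟨χ, ξ, hξ, hχ⟩ := hlift κ hκS
  have hξ' : ξ = (ψ κ).comp (σ κ) := by
    ext b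
    rw [hξ, Ξ_pos κ₀ _ κ hκ, ← σ_tr hκ]
    rfl
  refine hψ κ ?_
  rw [← hξ', ← hχ]
  have e : Spec.map (CommRingCat.ofHom (χ.comp ρ)) =
      Spec.map (CommRingCat.ofHom χ) ≫ Spec.map (CommRingCat.ofHom ρ) := by
    rw [← Spec.map_comp]
    rfl
  rw [e]
  exact bc_of_comp h₀₀ _ _ hPR

end Main

end Groth.Agent.H5.Ultra
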