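import Mathlib
import Groth.Agent.Lib.Helper5.Lim.FGSub2
import Groth.Agent.Lib.Helper5.Lim.DescendFlat
import Groth.Agent.Lib.Helper5.Lim.DescendSurjective
import Groth.Agent.Lib.Helper5.EtDesc.EtE

/-!
# Models over finitely generated subrings, with a morphism to a fixed scheme (helper5)
-/

set_option autoImplicit false
universe u

open CategoryTheory CategoryTheory.Limits AlgebraicGeometry MorphismProperty Opposite

namespace Groth.Agent.H5.Ultra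

open Groth.Agent.H5.Lim

/-- A morphism `q : U ⟶ Spec W` of finite presentation, together with a morphism `m` to a scheme
locally of finite presentation over a finitely generated ring `A₀` mapping to `W`, descends to a
finitely generated subring of `W`, keeping two properties satisfying descent along limits. -/
theorem exists_fg_model (A₀ : Type u) [CommRing A₀] [Algebra.FiniteType ℤ A₀] {Z : Scheme.{u}}
    (h : Z ⟶ Spec (CommRingCat.of A₀)) [LocallyOfFinitePresentation h]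
    (W : Type u) [CommRing W] (ρ₀ : A₀ →+* W) {U : Scheme.{u}} (q : U ⟶ Spec (CommRingCat.of W))
    [LocallyOfFinitePresentation q] [QuasiCompact q] [QuasiSeparated q] (m : U ⟶ Z)
    (hm : m ≫ h = q ≫ Spec.map (CommRingCat.ofHom ρ₀))
    {Q₁ Q₂ : MorphismProperty Scheme.{u}} [IsZariskiLocalAtTarget Q₁] [Q₁.IsStableUnderBaseChange]
    [IsZariskiLocalAtTarget Q₂] [Q₂.IsStableUnderBaseChange]
    (HQ₁ : AffineSystemDescent Q₁
      (@LocallyOfFinitePresentation ⊓ (@QuasiCompact ⊓ @QuasiSeparated)))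
    (HQ₂ : AffineSystemDescent Q₂
      (@LocallyOfFinitePresentation ⊓ (@QuasiCompact ⊓ @QuasiSeparated)))
    (h₁ : Q₁ q) (h₂ : Q₂ q) :
    ∃ (R : Subalgebra ℤ W) (_ : R.FG) (ρ : A₀ →+* R) (_ : R.val.toRingHom.comp ρ = ρ₀)
      (U_R : Scheme.{u}) (q_R : U_R ⟶ Spec (CommRingCat.of ↥R)) (m_R : U_R ⟶ Z) (g : U ⟶ U_R),
      LocallyOfFinitePresentation q_R ∧ QuasiCompact q_R ∧ QuasiSeparated q_R ∧
      m_R ≫ h = q_R ≫ Spec.map (CommRingCat.ofHom ρ) ∧ Q₁ q_R ∧ Q₂ q_R ∧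
      IsPullback g q q_R (Spec.map (CommRingCat.ofHom (algebraMap ↥R W))) ∧ g ≫ m_R = m := by
  classical
  have hc := isLimitFgzCone W
  -- the subalgebra generated by the image of `A₀`
  have hfg : (ρ₀.toIntAlgHom).range.FG := by
    rw [← Algebra.map_top]
    exact (inferInstance : Algebra.FiniteType ℤ A₀).out.map _
  let j₀ : (FGZ W)ᵒᵖ := op ⟨(ρ₀.toIntAlgHom).range, hfg⟩
  have hmem : ∀ (k : (FGZ W)ᵒᵖ) (_ : k ⟶ j₀) (a : A₀), ρ₀ a ∈ k.unop.1 := fun k φ a =>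
    (leOfHom φ.unop) ⟨a, rfl⟩
  let cor : ∀ (k : (FGZ W)ᵒᵖ) (_ : k ⟶ j₀), A₀ →+* ↥k.unop.1 := fun k φ =>
    ρ₀.codRestrict k.unop.1 (hmem k φ)
  have cor_val : ∀ (k : (FGZ W)ᵒᵖ) (φ : k ⟶ j₀), k.unop.1.val.toRingHom.comp (cor k φ) = ρ₀ :=
    fun k φ => by ext a; rfl
  have cor_π : ∀ (k : (FGZ W)ᵒᵖ) (φ : k ⟶ j₀),
      (fgzCone W).π.app k ≫ Spec.map (CommRingCat.ofHom (cor k φ)) =
        Spec.map (CommRingCat.ofHom ρ₀) := fun k φ => by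
    change Spec.map _ ≫ Spec.map _ = _
    rw [← Spec.map_comp]
    rfl
  have cor_map : ∀ (k k' : (FGZ W)ᵒᵖ) (φ : k ⟶ j₀) (ψ : k' ⟶ k),
      (fgzDiagram W).map ψ ≫ Spec.map (CommRingCat.ofHom (cor k φ)) =
        Spec.map (CommRingCat.ofHom (cor k' (ψ ≫ φ))) := fun k k' φ ψ => by
    change Spec.map _ ≫ Spec.map _ = _
    rw [← Spec.map_comp]
    rfl
  -- a model of `q`
  let q' : U ⟶ (fgzCone W).pt := q
  haveI : LocallyOfFinitePresentation q' := ‹LocallyOfFinitePresentation q›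
  haveI : QuasiCompact q' := ‹QuasiCompact q›
  haveI : QuasiSeparated q' := ‹QuasiSeparated q›
  obtain ⟨j, ⟨M⟩⟩ := exists_model (fgzDiagram W) (fgzCone W) hc q'
  let j₁ := IsCofiltered.min j j₀
  let M₁ := M.bc (IsCofiltered.minToLeft j j₀)
  obtain ⟨j₂, φ₂, hQ₁⟩ := M₁.exists_property hc HQ₁ ⟨M₁.lfp, M₁.qc, M₁.qs⟩ h₁
  let M₂ := M₁.bc φ₂
  obtain ⟨j₃, φ₃, hQ₂⟩ := M₂.exists_property hc HQ₂ ⟨M₂.lfp, M₂.qc, M₂.qs⟩ h₂
  let M₃ := M₂.bc φ₃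
  have hQ₁' : Q₁ M₃.p := Q₁.pullback_snd _ _ hQ₁
  let φ₀ : j₃ ⟶ j₀ := φ₃ ≫ φ₂ ≫ IsCofiltered.minToRight j j₀
  have ha : m ≫ h = M₃.g ≫ M₃.p ≫ Spec.map (CommRingCat.ofHom (cor j₃ φ₀)) := by
    rw [hm, ← Category.assoc M₃.g, M₃.pb.w, Category.assoc, cor_π j₃ φ₀]
    rfl
  obtain ⟨k', φ', Hk⟩ := Groth.Agent.H5.EtDesc.exists_hom_of_isPullback (fgzDiagram W)
    (fgzCone W) hc j₃ M₃.p h (M₃.p ≫ Spec.map (CommRingCat.ofHom (cor j₃ φ₀))) M₃.g q' M₃.pb m ha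
  let M₄ := M₃.bc φ'
  obtain ⟨ak, hak1, hak2⟩ := Hk (M₃.bcFst φ') M₄.p (M₃.isPullback_bcFst φ') M₄.g
    (M₃.bc_g_bcFst φ') (M₃.bc_g_p φ')
  refine ⟨k'.unop.1, k'.unop.2, cor k' (φ' ≫ φ₀), cor_val k' (φ' ≫ φ₀), M₄.Y, M₄.p, ak, M₄.g, M₄.lfp,
    M₄.qc, M₄.qs, ?_, Q₁.pullback_snd _ _ hQ₁', Q₂.pullback_snd _ _ hQ₂, M₄.pb, hak2⟩
  rw [hak1, ← Category.assoc, M₃.bcFst_p φ', Category.assoc, cor_map j₃ k' φ₀ φ']
  rfl

end Groth.Agent.H5.Ultra
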