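import Mathlib
import Groth.Agent.Lib.Helper5.Ultra.UpB
import Groth.Agent.Lib.Helper5.Ultra.UpC
import Groth.Agent.Lib.Helper8.Val.SatFG
import Groth.Agent.Lib.Helper1.Subtr1
import Groth.Agent.S14765
import Groth.Agent.S14768

/-!
# Universal S-subtrusiveness descends along limits (helper5)
-/

set_option autoImplicit false
universe u

open CategoryTheory CategoryTheory.Limits AlgebraicGeometry MorphismProperty Opposite

namespace Groth.Agent.H5.Ultra

open Groth.Agent.H5.Lim Subtr Groth.Agent.Lib.Helper1.Subtr1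

section Basic

variable {X Y : Scheme.{u}}

/-- a flat surjective morphism is universally S-subtrusive -/
theorem univSSubtrusive_of_flat_of_surjective (q : X ⟶ Y) [Flat q] [Surjective q] :
    UnivSSubtrusive q := by
  intro X' Y' i₁ i₂ q' hsq
  haveI : Flat q' := MorphismProperty.of_isPullback (P := @Flat) hsq.flip inferInstance
  haveI : Surjective q' := MorphismProperty.of_isPullback (P := @Surjective) hsq.flip inferInstance
  intro y y' hy
  obtain ⟨x, hx⟩ := q'.surjective y
  have hy' : y' ⤳ q' x := by rw [hx]; exact hy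
  obtain ⟨x', hx', hx'y⟩ := Flat.generalizingMap q' hy'
  exact ⟨x, x', hx', hx, hx'y⟩

theorem UnivSSubtrusive.of_comp {Z : Scheme.{u}} {f : X ⟶ Y} {g : Y ⟶ Z}
    (h : UnivSSubtrusive (f ≫ g)) : UnivSSubtrusive g :=
  univSSubtrusive_iff_valLift.mpr (ValLift.of_comp (univSSubtrusive_iff_valLift.mp h))

instance : IsZariskiLocalAtTarget UnivSSubtrusive.{u} := by
  apply universally_isZariskiLocalAtTarget
  intro X Y f ι U hU H y y' hy
  obtain ⟨i, hi⟩ := hU.exists_mem y
  have hi' : y' ∈ U i := hy.mem_open (U i).2 hi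
  have hsp : (⟨y', hi'⟩ : (U i).toScheme) ⤳ ⟨y, hi⟩ :=
    (U i).ι.isOpenEmbedding.isInducing.specializes_iff.mp hy
  obtain ⟨x, x', hx, h1, h2⟩ := H i hsp
  refine ⟨(f ⁻¹ᵁ U i).ι x, (f ⁻¹ᵁ U i).ι x', hx.map (f ⁻¹ᵁ U i).ι.continuous, ?_, ?_⟩
  · rw [← Scheme.Hom.comp_apply, ← morphismRestrict_ι, Scheme.Hom.comp_apply, h1]
    rfl
  · rw [← Scheme.Hom.comp_apply, ← morphismRestrict_ι, Scheme.Hom.comp_apply, h2]
    rfl

instance : UnivSSubtrusive.{u}.IsStableUnderBaseChange :=
  inferInstanceAs (MorphismProperty.universally _).IsStableUnderBaseChange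

end Basic

/-- valuative detection for universal S-subtrusiveness -/
theorem valDetect_univSSubtrusive : ValDetect UnivSSubtrusive.{u} := by
  intro Z Y h _ _ _ hall
  rw [Groth.Agent.S14768.result h]
  intro V _ _ _ g
  exact UnivSSubtrusive.isSSubtrusive (hall V g)

/-- over a valuation ring, a universally S-subtrusive morphism of finite presentation admits a
flat, surjective, finitely presented affine scheme mapping to it -/
theorem exists_flat_surjective_fp (W : Type u) [CommRing W] [IsDomain W] [ValuationRing W]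
    {X : Scheme.{u}} (f : X ⟶ Spec (CommRingCat.of W)) [LocallyOfFiniteType f]
    (hf : UnivSSubtrusive f) :
    ∃ (U : Scheme.{u}) (m : U ⟶ X), Flat (m ≫ f) ∧ Surjective (m ≫ f) ∧
      LocallyOfFinitePresentation (m ≫ f) ∧ QuasiCompact (m ≫ f) ∧ QuasiSeparated (m ≫ f) := by
  obtain ⟨Zc, i, hi, hflat, hsurj⟩ := ((Groth.Agent.S14765.result W f).out 0 5).mp hf
  obtain ⟨z, hz⟩ := hsurj.surj (IsLocalRing.closedPoint W)
  obtain ⟨a, z', hz'⟩ := Zc.affineCover.exists_eq z
  let U := Zc.affineCover.X a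
  let ι : U ⟶ Zc := Zc.affineCover.f a
  haveI : IsAffine U := by dsimp [U]; infer_instance
  haveI : IsOpenImmersion ι := by dsimp [ι]; infer_instance
  let q : U ⟶ Spec (CommRingCat.of W) := (ι ≫ i) ≫ f
  haveI hqflat : Flat q := by
    have : q = ι ≫ (i ≫ f) := Category.assoc _ _ _
    rw [this]
    infer_instance
  haveI : LocallyOfFiniteType q := inferInstanceAs (LocallyOfFiniteType ((ι ≫ i) ≫ f))
  -- surjectivity
  have hqz : q z' = IsLocalRing.closedPoint W := by
    change ((ι ≫ i) ≫ f) z' = _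
    rw [Category.assoc, Scheme.Hom.comp_apply, hz']
    exact hz
  haveI hqsurj : Surjective q := by
    refine ⟨fun y => ?_⟩
    have hy : y ⤳ q z' := by
      rw [hqz]
      exact IsLocalRing.specializes_closedPoint y
    obtain ⟨x', -, hx'⟩ := Flat.generalizingMap q hy
    exact ⟨x', hx'⟩
  -- finite presentation
  let φ : CommRingCat.of W ⟶ Γ(U, ⊤) := Spec.preimage (U.isoSpec.inv ≫ q)
  have hφ : Spec.map φ = U.isoSpec.inv ≫ q := Spec.map_preimage _
  have hq : q = U.isoSpec.hom ≫ Spec.map φ := by rw [hφ, Iso.hom_inv_id_assoc]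
  have h1 : φ.hom.Flat := by
    have : Flat (Spec.map φ) := by rw [hφ]; infer_instance
    exact (HasRingHomProperty.Spec_iff (P := @Flat)).mp this
  have h2 : φ.hom.FiniteType := by
    have : LocallyOfFiniteType (Spec.map φ) := by rw [hφ]; infer_instance
    exact (HasRingHomProperty.Spec_iff (P := @LocallyOfFiniteType)).mp this
  letI : Algebra W Γ(U, ⊤) := φ.hom.toAlgebra
  haveI : Algebra.FiniteType W Γ(U, ⊤) := h2
  haveI : Module.Flat W Γ(U, ⊤) := h1
  have htf : ∀ a : W, a ≠ 0 → ∀ c : Γ(U, ⊤), a • c = 0 → c = 0 := by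
    intro a ha c hc
    have hreg := Module.Flat.isSMulRegular_of_nonZeroDivisors (M := Γ(U, ⊤))
      (mem_nonZeroDivisors_of_ne_zero ha)
    exact hreg (show a • c = a • 0 by rw [hc, smul_zero])
  have h3 : Algebra.FinitePresentation W Γ(U, ⊤) :=
    Groth.Agent.H8.Val.fp_of_ft_torsionFree W Γ(U, ⊤) htf
  have h4 : φ.hom.FinitePresentation := h3
  haveI : LocallyOfFinitePresentation (Spec.map φ) :=
    (HasRingHomProperty.Spec_iff (P := @LocallyOfFinitePresentation)).mpr h4
  haveI : LocallyOfFinitePresentation q := by rw [hq]; infer_instance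
  haveI : IsAffineHom q := by rw [hq]; infer_instance
  exact ⟨U, ι ≫ i, hqflat, hqsurj, inferInstance, inferInstance, inferInstance⟩

/-- finite witnesses for universal S-subtrusiveness -/
theorem valWitness_univSSubtrusive : ValWitness UnivSSubtrusive.{u} ⊤ := by
  intro A₀ _ _ Z h _ _ _ _ W _ _ _ ρ₀ hP
  obtain ⟨U, m, hflat, hsurj, hfp, hqc, hqs⟩ := exists_flat_surjective_fp W
    (pullback.snd h (Spec.map (CommRingCat.ofHom ρ₀))) hP
  have hm : (m ≫ pullback.fst h (Spec.map (CommRingCat.ofHom ρ₀))) ≫ h =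
      (m ≫ pullback.snd h (Spec.map (CommRingCat.ofHom ρ₀))) ≫
        Spec.map (CommRingCat.ofHom ρ₀) := by
    rw [Category.assoc, Category.assoc, pullback.condition]
  obtain ⟨R, hR, ρ, hρ, U_R, q_R, m_R, g, _, _, _, hcomm, hfl, hsj, -, -⟩ :=
    exists_fg_model A₀ h W ρ₀ (m ≫ pullback.snd h (Spec.map (CommRingCat.ofHom ρ₀)))
      (m ≫ pullback.fst h (Spec.map (CommRingCat.ofHom ρ₀))) hm
      affineSystemDescent_flat affineSystemDescent_surjective hflat hsurj
  refine ⟨R, hR, ρ, hρ, ?_⟩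
  haveI : Flat q_R := hfl
  haveI : Surjective q_R := hsj
  have h1 : UnivSSubtrusive q_R := univSSubtrusive_of_flat_of_surjective q_R
  have e : pullback.lift m_R q_R hcomm ≫ pullback.snd h (Spec.map (CommRingCat.ofHom ρ)) = q_R :=
    pullback.lift_snd _ _ _
  rw [← e] at h1
  exact UnivSSubtrusive.of_comp h1

end Groth.Agent.H5.Ultra
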