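import Mathlib
import Groth.Agent.Lib.Helper8.Val.SatFG

/-!
# The torsion ideal of an algebra over a valuation ring (helper5)
-/

set_option autoImplicit false
universe u

namespace Groth.Agent.H5.Ultra

section Torsion

variable (W : Type u) [CommRing W] [IsDomain W] (C : Type u) [CommRing C] [Algebra W C]

/-- the ideal of `W`-torsion elements of a `W`-algebra -/
def torsionIdeal : Ideal C where
  carrier := {c | ∃ a : W, a ≠ 0 ∧ a • c = 0}
  add_mem' := by
    rintro c d ⟨a, ha, hac⟩ ⟨b, hb, hbd⟩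
    refine ⟨a * b, mul_ne_zero ha hb, ?_⟩
    rw [smul_add, mul_smul, smul_comm a b c, hac, mul_smul, hbd]
    simp only [smul_zero, add_zero]
  zero_mem' := ⟨1, one_ne_zero, smul_zero _⟩
  smul_mem' := by
    rintro r c ⟨a, ha, hac⟩
    refine ⟨a, ha, ?_⟩
    rw [smul_eq_mul, ← mul_smul_comm, hac, mul_zero]

lemma mem_torsionIdeal (c : C) : c ∈ torsionIdeal W C ↔ ∃ a : W, a ≠ 0 ∧ a • c = 0 := Iff.rfl

lemma torsionFree_quotient (a : W) (ha : a ≠ 0) (x : C ⧸ torsionIdeal W C) (hx : a • x = 0) :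
    x = 0 := by
  obtain ⟨c, rfl⟩ := Ideal.Quotient.mk_surjective x
  have h1 : (Ideal.Quotient.mk (torsionIdeal W C)) (a • c) = 0 := by
    rw [← hx]
    rfl
  rw [Ideal.Quotient.eq_zero_iff_mem, mem_torsionIdeal] at h1
  obtain ⟨b, hb, hbc⟩ := h1
  rw [Ideal.Quotient.eq_zero_iff_mem, mem_torsionIdeal]
  exact ⟨b * a, mul_ne_zero hb ha, by rw [mul_smul, hbc]⟩

variable [ValuationRing W]

instance flat_quotient_torsionIdeal : Module.Flat W (C ⧸ torsionIdeal W C) := by
  rw [Module.Flat.flat_iff_torsion_eq_bot_of_isBezout, eq_bot_iff]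
  intro x hx
  rw [Submodule.mem_torsion_iff] at hx
  obtain ⟨⟨a, ha⟩, hax⟩ := hx
  rw [Submodule.mem_bot]
  exact torsionFree_quotient W C a (nonZeroDivisors.ne_zero ha) x hax

theorem finitePresentation_quotient_torsionIdeal [Algebra.FiniteType W C] :
    Algebra.FinitePresentation W (C ⧸ torsionIdeal W C) := by
  haveI : Algebra.FiniteType W (C ⧸ torsionIdeal W C) :=
    Algebra.FiniteType.of_surjective (Ideal.Quotient.mkₐ W (torsionIdeal W C))
      (Ideal.Quotient.mkₐ_surjective W _)
  exact Groth.Agent.H8.Val.fp_of_ft_torsionFree W (C ⧸ torsionIdeal W C)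
    (torsionFree_quotient W C)

omit [ValuationRing W] in
/-- the torsion ideal is contained in every prime having a generization over the zero ideal -/
lemma torsionIdeal_le_of_le (p q : Ideal C) [q.IsPrime] (hqp : q ≤ p)
    (hq : ∀ a : W, algebraMap W C a ∈ q → a = 0) : torsionIdeal W C ≤ p := by
  intro c hc
  obtain ⟨a, ha, hac⟩ := hc
  have h1 : algebraMap W C a * c ∈ q := by
    rw [← Algebra.smul_def, hac]
    exact q.zero_mem
  rcases Ideal.IsPrime.mem_or_mem inferInstance h1 with h2 | h2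
  · exact absurd (hq a h2) ha
  · exact hqp h2

end Torsion

end Groth.Agent.H5.Ultra
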