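import Mathlib
import Groth.Agent.Lib.Helper5.Ultra.UpD

/-!
# Universal S-subtrusiveness descends along limits: the statement (helper5)
-/

set_option autoImplicit false
universe u

open CategoryTheory CategoryTheory.Limits AlgebraicGeometry MorphismProperty Opposite

namespace Groth.Agent.H5.Ultra

open Groth.Agent.H5.Lim Subtr

theorem affineSystemDescent_top (Φ : MorphismProperty Scheme.{u}) :
    AffineSystemDescent.{u} ⊤ Φ := by
  intro J _ _ E cE hcE _ j₁ Z₀ h₀ _ _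
  exact ⟨j₁, 𝟙 _, trivial⟩

theorem affineSystemDescent_univSSubtrusive :
    AffineSystemDescent.{u} UnivSSubtrusive
      (@LocallyOfFinitePresentation ⊓ @QuasiCompact ⊓ @QuasiSeparated ⊓ ⊤) :=
  affineSystemDescent_of_val (Φ' := ⊤) (affineSystemDescent_top ⊤) (fun _ _ _ _ => trivial)
    valDetect_univSSubtrusive valWitness_univSSubtrusive

theorem main_S14785 {I : Type u} [SmallCategory I] [IsCofiltered I]
    (D : I ⥤ Scheme.{u}) (c : Limits.Cone D) (hc : Limits.IsLimit c)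
    [∀ (i j : I) (a : i ⟶ j), IsAffineHom (D.map a)] (i₀ : I)
    {X₀ Y₀ : Scheme.{u}} (f₀ : X₀ ⟶ Y₀) (g₀ : Y₀ ⟶ D.obj i₀) [CompactSpace Y₀]
    [LocallyOfFinitePresentation f₀] [QuasiCompact f₀] [QuasiSeparated f₀]
    {X Y : Scheme.{u}} (f : X ⟶ Y) (g : Y ⟶ c.pt) (qY : Y ⟶ Y₀) (qX : X ⟶ X₀)
    (hY : IsPullback qY g g₀ (c.π.app i₀)) (hX : IsPullback qX f f₀ qY)
    (hf : Subtr.UnivSSubtrusive f) :
    ∃ (i : I) (φ : i ⟶ i₀) (Xi Yi : Scheme.{u}) (fi : Xi ⟶ Yi) (gi : Yi ⟶ D.obj i) (pY : Yi ⟶ Y₀)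
      (pX : Xi ⟶ X₀), IsPullback pY gi g₀ (D.map φ) ∧ IsPullback pX fi f₀ pY ∧
        Subtr.UnivSSubtrusive fi :=
  exists_descend D c hc affineSystemDescent_univSSubtrusive i₀ f₀ g₀
    ⟨⟨⟨inferInstance, inferInstance⟩, inferInstance⟩, trivial⟩ f g qY qX hY hX hf

end Groth.Agent.H5.Ultra
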