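import Mathlib
import Groth.Agent.Lib.Helper5.Ultra.UpE
import Groth.Agent.Lib.Helper1.Subtr3
import Groth.Agent.S14770

/-!
# Noetherian models of universally S-subtrusive morphisms (helper5, S14792)
-/

set_option autoImplicit false
universe u

open CategoryTheory CategoryTheory.Limits AlgebraicGeometry MorphismProperty Opposite

namespace Groth.Agent.H5.Ultra

open Groth.Agent.H5.Lim Subtr

theorem main_S14792 (A : Type u) [CommRing A]
    {X : Scheme.{u}} (f : X ⟶ Spec (CommRingCat.of A))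
    [LocallyOfFinitePresentation f] [QuasiCompact f] [QuasiSeparated f] :
    Subtr.UnivSSubtrusive f ↔
      ∃ (A₀ : Subalgebra ℤ A) (_ : A₀.FG) (X₀ : Scheme.{u}) (f₀ : X₀ ⟶ Spec (CommRingCat.of A₀))
        (q : X ⟶ X₀), IsPullback q f f₀ (Spec.map (CommRingCat.ofHom A₀.val.toRingHom)) ∧
        LocallyOfFinitePresentation f₀ ∧ QuasiCompact f₀ ∧ QuasiSeparated f₀ ∧
        SGA1.UnivSubmersive f₀ := by
  constructor
  · intro hf
    obtain ⟨A₀, hA₀, X₀, f₀, g, hP, h1, h2, h3, sq⟩ := exists_model_fgz A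
      affineSystemDescent_univSSubtrusive
      (fun g h1 h2 h3 => ⟨⟨⟨h1, h2⟩, h3⟩, trivial⟩) f hf
    exact ⟨A₀, hA₀, X₀, f₀, g, sq, h1, h2, h3,
      Groth.Agent.Lib.Helper1.Subtr3.univSubmersive_of_univSSubtrusive hP⟩
  · rintro ⟨A₀, hA₀, X₀, f₀, q, sq, h1, h2, h3, hsub⟩
    haveI : Algebra.FiniteType ℤ ↥A₀ := (Subalgebra.fg_iff_finiteType A₀).mp hA₀
    haveI : IsNoetherianRing ↥A₀ := Algebra.FiniteType.isNoetherianRing ℤ ↥A₀
    haveI : IsLocallyNoetherian (Spec (CommRingCat.of ↥A₀)) := inferInstance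
    have h4 : Subtr.UnivSSubtrusive f₀ := (Groth.Agent.S14770.result f₀).mp hsub
    exact MorphismProperty.of_isPullback (P := Subtr.UnivSSubtrusive) sq h4

end Groth.Agent.H5.Ultra
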