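import Mathlib
import Groth.Agent.Lib.Helper5.Ultra.UpB
import Groth.Agent.Lib.Helper5.Ultra.UpC
import Groth.Agent.Lib.Helper5.Ultra.UpG
import Groth.Agent.Lib.Helper5.EtSrc.OfComp
import Groth.Agent.Lib.Helper5.EtDesc.EtZe
import Groth.Agent.Lib.Helper1.UOValCrit
import Groth.Agent.Lib.Helper5.UO.UO1

/-!
# Universal openness descends along limits (helper5)
-/

set_option autoImplicit false
universe u

open CategoryTheory CategoryTheory.Limits AlgebraicGeometry MorphismProperty Opposite

namespace Groth.Agent.H5.Ultra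

open Groth.Agent.H5.Lim

section Basic

variable {X Y Z : Scheme.{u}}

/-- if `f ≫ g` is universally open and `f` is surjective, then `g` is universally open -/
theorem universallyOpen_of_comp_surjective (f : X ⟶ Y) (g : Y ⟶ Z) [Surjective f]
    [UniversallyOpen (f ≫ g)] : UniversallyOpen g := by
  refine ⟨universally_mk' _ _ fun {T} t _ => ?_⟩
  let fT := pullback.fst (pullback.snd t g) f
  have e : (pullbackLeftPullbackSndIso t g f).hom ≫ pullback.fst t (f ≫ g) =
      fT ≫ pullback.fst t g := pullbackLeftPullbackSndIso_hom_fst t g f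
  have hopen : IsOpenMap (fT ≫ pullback.fst t g) := by
    rw [← e]
    exact (pullback.fst t (f ≫ g)).isOpenMap.comp
      (pullbackLeftPullbackSndIso t g f).hom.homeomorph.isOpenMap
  have hsurj : Function.Surjective fT := fT.surjective
  intro U hU
  have : (pullback.fst t g) '' U = (fT ≫ pullback.fst t g) '' (fT ⁻¹' U) := by
    rw [Scheme.Hom.comp_base, TopCat.coe_comp, Set.image_comp, Set.image_preimage_eq _ hsurj]
  rw [this]
  exact hopen _ (hU.preimage fT.continuous)

/-- universal openness can be checked pointwise -/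
theorem universallyOpen_of_forall_isUnivOpenAt (f : X ⟶ Y)
    (h : ∀ x, EGA43.IsUnivOpenAt f x) : UniversallyOpen f := by
  refine Groth.Agent.H5.UO.universallyOpen_of_pullback_snd fun n _ => ?_
  intro U hU
  rw [isOpen_iff_mem_nhds]
  rintro _ ⟨x, hx, rfl⟩
  exact h _ _ _ x rfl U (hU.mem_nhds hx)

end Basic

/-- valuative detection for universal openness -/
theorem valDetect_universallyOpen : ValDetect @UniversallyOpen.{u} := by
  intro Z Y h _ _ _ hall
  refine universallyOpen_of_forall_isUnivOpenAt h fun x => ?_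
  refine Groth.Agent.H1.UOValCrit.isUnivOpenAt_of_valuative h x ?_
  intro A _ _ _ k P fst snd sq η hη p _ _
  haveI : UniversallyOpen snd :=
    (AlgSp.prop_of_isPullback_snd_iff (P := @UniversallyOpen) sq).mpr (hall A k)
  have hop : EGA43.IsOpenAt snd.base p := fun U hU => snd.isOpenMap.image_mem_nhds hU
  exact Groth.Agent.H1.UO14.exists_generization_over_generic snd p hop η hη

/-- over a valuation ring, a universally open finitely presented affine scheme receives a
surjection from a flat finitely presented affine scheme -/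
theorem exists_flat_nil_witness (W : Type u) [CommRing W] [IsDomain W] [ValuationRing W]
    {X : Scheme.{u}} [IsAffine X] (f : X ⟶ Spec (CommRingCat.of W)) [LocallyOfFiniteType f]
    [UniversallyOpen f] :
    ∃ (U : Scheme.{u}) (m : U ⟶ X), Surjective m ∧ Flat (m ≫ f) ∧
      LocallyOfFinitePresentation (m ≫ f) ∧ QuasiCompact (m ≫ f) ∧ QuasiSeparated (m ≫ f) := by
  let φ : CommRingCat.of W ⟶ Γ(X, ⊤) := Spec.preimage (X.isoSpec.inv ≫ f)
  have hφ : Spec.map φ = X.isoSpec.inv ≫ f := Spec.map_preimage _
  letI : Algebra W Γ(X, ⊤) := φ.hom.toAlgebra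
  haveI : Algebra.FiniteType W Γ(X, ⊤) := by
    have : LocallyOfFiniteType (Spec.map φ) := by rw [hφ]; infer_instance
    exact (HasRingHomProperty.Spec_iff (P := @LocallyOfFiniteType)).mp this
  let T := torsionIdeal W Γ(X, ⊤)
  -- the torsion ideal is contained in the nilradical
  haveI : UniversallyOpen (Spec.map φ) := by rw [hφ]; infer_instance
  have hT : T ≤ nilradical Γ(X, ⊤) := by
    rw [nilradical_eq_sInf]
    refine le_sInf fun p (hp : p.IsPrime) => ?_
    let pp : Spec Γ(X, ⊤) := ⟨p, hp⟩
    have hop : EGA43.IsOpenAt (Spec.map φ).base pp := fun U hU =>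
      (Spec.map φ).isOpenMap.image_mem_nhds hU
    let η : Spec (CommRingCat.of W) := ⟨⊥, Ideal.isPrime_bot⟩
    have hη : ∀ t : Spec (CommRingCat.of W), η ⤳ t := fun t =>
      (PrimeSpectrum.le_iff_specializes η t).mp bot_le
    obtain ⟨z, hz, hzη⟩ := Groth.Agent.H1.UO14.exists_generization_over_generic (Spec.map φ) pp
      hop η hη
    have hzp : z.asIdeal ≤ p := (PrimeSpectrum.le_iff_specializes z pp).mpr hz
    refine torsionIdeal_le_of_le W Γ(X, ⊤) p z.asIdeal hzp ?_
    intro a ha
    have h1 : a ∈ ((Spec.map φ) z).asIdeal := ha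
    rw [hzη] at h1
    exact h1
  -- the quotient
  let C' := Γ(X, ⊤) ⧸ T
  have hfp : Algebra.FinitePresentation W C' := finitePresentation_quotient_torsionIdeal W Γ(X, ⊤)
  have hflat : Module.Flat W C' := flat_quotient_torsionIdeal W Γ(X, ⊤)
  let π : Γ(X, ⊤) ⟶ CommRingCat.of C' := CommRingCat.ofHom (Ideal.Quotient.mk T)
  let m : Spec (CommRingCat.of C') ⟶ X := Spec.map π ≫ X.isoSpec.inv
  have hm : m ≫ f = Spec.map (CommRingCat.ofHom (algebraMap W C')) := by
    change (Spec.map π ≫ X.isoSpec.inv) ≫ f = _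
    rw [Category.assoc, ← hφ, ← Spec.map_comp]
    rfl
  haveI : Surjective (Spec.map π) :=
    ⟨(PrimeSpectrum.comap_quotientMk_bijective_of_le_nilradical hT).2⟩
  refine ⟨Spec (CommRingCat.of C'), m, inferInstanceAs (Surjective (Spec.map π ≫ X.isoSpec.inv)),
    ?_, ?_, ?_, ?_⟩
  · rw [hm]
    exact (HasRingHomProperty.Spec_iff (P := @Flat)).mpr
      (RingHom.flat_algebraMap_iff.mpr hflat)
  · rw [hm]
    exact (HasRingHomProperty.Spec_iff (P := @LocallyOfFinitePresentation)).mpr
      (RingHom.finitePresentation_algebraMap.mpr hfp)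
  · rw [hm]; infer_instance
  · rw [hm]; infer_instance

end Groth.Agent.H5.Ultra
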