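import Mathlib
import Groth.Agent.Lib.Helper5.Ultra.UpH

/-!
# Universal openness descends along limits: finite witnesses and the statement (helper5)
-/

set_option autoImplicit false
universe u

open CategoryTheory CategoryTheory.Limits AlgebraicGeometry MorphismProperty Opposite

namespace Groth.Agent.H5.Ultra

open Groth.Agent.H5.Lim

/-- finite witnesses for universal openness (affine source) -/
theorem valWitness_universallyOpen : ValWitness @UniversallyOpen.{u} @IsAffineHom := by
  intro A₀ _ _ Z h _ _ _ haff W _ _ _ ρ₀ hP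
  haveI : IsAffineHom h := haff
  let w := Spec.map (CommRingCat.ofHom ρ₀)
  haveI : UniversallyOpen (pullback.snd h w) := hP
  haveI : IsAffine (pullback h w) := isAffine_of_isAffineHom (pullback.snd h w)
  obtain ⟨U, m, hmsurj, hflat, hfp, hqc, hqs⟩ := exists_flat_nil_witness W (pullback.snd h w)
  have hm : (m ≫ pullback.fst h w) ≫ h = (m ≫ pullback.snd h w) ≫ w := by
    rw [Category.assoc, Category.assoc, pullback.condition]
  obtain ⟨R, hR, ρ, hρ, U_R, q_R, m_R, g, hlfp, hqcR, hqsR, hcomm, hfl, -, sqg, hgm⟩ :=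
    exists_fg_model A₀ h W ρ₀ (m ≫ pullback.snd h w) (m ≫ pullback.fst h w) hm
      affineSystemDescent_flat affineSystemDescent_flat hflat hflat
  -- the stage `R`
  let wR := Spec.map (CommRingCat.ofHom ρ)
  let aR : Spec (CommRingCat.of W) ⟶ Spec (CommRingCat.of ↥R) :=
    Spec.map (CommRingCat.ofHom (algebraMap ↥R W))
  have haR : aR ≫ wR = w := by
    change Spec.map _ ≫ Spec.map _ = Spec.map _
    rw [← Spec.map_comp]
    congr 1
    ext a
    exact RingHom.congr_fun hρ a
  let ℓ : U_R ⟶ pullback h wR := pullback.lift m_R q_R hcomm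
  have hℓ : ℓ ≫ pullback.snd h wR = q_R := pullback.lift_snd _ _ _
  let y : pullback h w ⟶ pullback h wR :=
    pullback.lift (pullback.fst h w) (pullback.snd h w ≫ aR) (by
      rw [pullback.condition, Category.assoc, haR])
  have h2 : IsPullback y (pullback.snd h w) (pullback.snd h wR) aR := by
    refine IsPullback.of_right ?_ (pullback.lift_snd _ _ _) (IsPullback.of_hasPullback h wR)
    rw [pullback.lift_fst, haR]
    exact IsPullback.of_hasPullback h w
  have hcomm2 : g ≫ ℓ = m ≫ y := by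
    apply pullback.hom_ext
    · rw [Category.assoc, pullback.lift_fst, Category.assoc, pullback.lift_fst, hgm]
    · rw [Category.assoc, hℓ, Category.assoc, pullback.lift_snd, sqg.w, Category.assoc]
  have h1 : IsPullback g m ℓ y := by
    refine IsPullback.of_bot ?_ hcomm2 h2
    rw [hℓ]
    exact sqg
  haveI : IsAffine (pullback h wR) := isAffine_of_isAffineHom (pullback.snd h wR)
  have hℓΦ : (@LocallyOfFinitePresentation ⊓ (@QuasiCompact ⊓ @QuasiSeparated) :
      MorphismProperty Scheme.{u}) ℓ := by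
    haveI : LocallyOfFinitePresentation (ℓ ≫ pullback.snd h wR) := by rw [hℓ]; exact hlfp
    haveI : QuasiCompact (ℓ ≫ pullback.snd h wR) := by rw [hℓ]; exact hqcR
    haveI : QuasiSeparated (ℓ ≫ pullback.snd h wR) := by rw [hℓ]; exact hqsR
    exact ⟨Groth.Agent.H5.EtSrc.locallyOfFinitePresentation_of_comp ℓ (pullback.snd h wR)
      inferInstance inferInstance, QuasiCompact.of_comp ℓ (pullback.snd h wR),
      QuasiSeparated.of_comp ℓ (pullback.snd h wR)⟩
  obtain ⟨k, φ, Hk⟩ := Groth.Agent.H5.EtDesc.exists_prop_of_isPullback (fgzDiagram W) (fgzCone W)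
    (isLimitFgzCone W) affineSystemDescent_surjective (op ⟨R, hR⟩) ℓ (pullback.snd h wR) hℓΦ
    m g y (pullback.snd h w) h1 h2 hmsurj
  -- the stage `k`
  have hle : R ≤ k.unop.1 := leOfHom φ.unop
  let ρ' : A₀ →+* ↥k.unop.1 := (Subalgebra.inclusion hle).toRingHom.comp ρ
  have hρ' : k.unop.1.val.toRingHom.comp ρ' = ρ₀ := by
    rw [← hρ]
    ext a
    rfl
  let wR' := Spec.map (CommRingCat.ofHom ρ')
  let dφ : Spec (CommRingCat.of ↥k.unop.1) ⟶ Spec (CommRingCat.of ↥R) := (fgzDiagram W).map φ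
  have hφw : dφ ≫ wR = wR' := by
    change Spec.map _ ≫ Spec.map _ = Spec.map _
    rw [← Spec.map_comp]
    rfl
  let y' : pullback h wR' ⟶ pullback h wR :=
    pullback.lift (pullback.fst h wR') (pullback.snd h wR' ≫ dφ) (by
      rw [pullback.condition, Category.assoc, hφw])
  have h2' : IsPullback y' (pullback.snd h wR') (pullback.snd h wR) dφ := by
    refine IsPullback.of_right ?_ (pullback.lift_snd _ _ _) (IsPullback.of_hasPullback h wR)
    rw [pullback.lift_fst, hφw]
    exact IsPullback.of_hasPullback h wR'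
  have hsurj : Surjective (pullback.snd ℓ y') :=
    Hk (pullback.snd ℓ y') (pullback.fst ℓ y') y' (pullback.snd h wR')
      (IsPullback.of_hasPullback ℓ y') h2'
  have sq3 : IsPullback (pullback.fst ℓ y') (pullback.snd ℓ y' ≫ pullback.snd h wR')
      (ℓ ≫ pullback.snd h wR) dφ :=
    (IsPullback.of_hasPullback ℓ y').paste_vert h2'
  rw [hℓ] at sq3
  haveI : Flat (pullback.snd ℓ y' ≫ pullback.snd h wR') :=
    MorphismProperty.of_isPullback (P := @Flat) sq3 hfl
  haveI : LocallyOfFinitePresentation (pullback.snd ℓ y' ≫ pullback.snd h wR') :=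
    MorphismProperty.of_isPullback (P := @LocallyOfFinitePresentation) sq3 hlfp
  exact ⟨k.unop.1, k.unop.2, ρ', hρ',
    universallyOpen_of_comp_surjective (pullback.snd ℓ y') (pullback.snd h wR')⟩

/-- universal openness descends along limits, affine source -/
theorem affineSystemDescent_universallyOpen_affine :
    AffineSystemDescent.{u} @UniversallyOpen
      (@LocallyOfFinitePresentation ⊓ @QuasiCompact ⊓ @QuasiSeparated ⊓ @IsAffineHom) :=
  affineSystemDescent_of_val (Φ' := @QuasiCompact ⊓ @QuasiSeparated) affineSystemDescent_isAffineHom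
    (fun _ _ h2 h3 => ⟨h2, h3⟩) valDetect_universallyOpen valWitness_universallyOpen

/-- universal openness descends along limits -/
theorem affineSystemDescent_universallyOpen' :
    AffineSystemDescent.{u} @UniversallyOpen
      (@LocallyOfFinitePresentation ⊓ @QuasiCompact ⊓ @QuasiSeparated) := by
  classical
  intro J _ _ E cE hcE _ j₁ Z₀ h₀ hΦ hP
  haveI : LocallyOfFinitePresentation h₀ := hΦ.1.1
  haveI : QuasiCompact h₀ := hΦ.1.2
  haveI : QuasiSeparated h₀ := hΦ.2
  haveI : CompactSpace Z₀ := QuasiCompact.compactSpace_of_compactSpace h₀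
  let 𝒰 := Z₀.affineCover.finiteSubcover
  have h𝒰 : ∀ u, IsAffine (𝒰.X u) := fun u => by
    dsimp [𝒰]; infer_instance
  have key : ∀ u, ∃ k : Over j₁, UniversallyOpen (pullback.snd (𝒰.f u ≫ h₀) (E.map k.hom)) := by
    intro u
    haveI := h𝒰 u
    obtain ⟨j, φ, hj⟩ := affineSystemDescent_universallyOpen_affine E cE hcE j₁ (𝒰.f u ≫ h₀)
      ⟨⟨⟨inferInstance, inferInstance⟩, inferInstance⟩, inferInstance⟩
      ((bc_source_iff (P := @UniversallyOpen) h₀ (cE.π.app j₁) 𝒰).mp hP u)
    exact ⟨Over.mk φ, hj⟩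
  choose ku hku using key
  obtain ⟨k, hk⟩ := IsCofiltered.inf_objs_exists (Finset.univ.image ku)
  refine ⟨k.left, k.hom, ?_⟩
  rw [bc_source_iff (P := @UniversallyOpen) h₀ (E.map k.hom) 𝒰]
  intro u
  let ψ : k ⟶ ku u := (hk (Finset.mem_image_of_mem ku (Finset.mem_univ u))).some
  have e : E.map k.hom = E.map ψ.left ≫ E.map (ku u).hom := by
    rw [← E.map_comp, CategoryTheory.Over.w]
  rw [bc_congr (P := @UniversallyOpen) (𝒰.f u ≫ h₀) e]
  exact bc_of_comp (P := @UniversallyOpen) _ _ _ (hku u)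

theorem main_S14786 {I : Type u} [SmallCategory I] [IsCofiltered I]
    (D : I ⥤ Scheme.{u}) (c : Limits.Cone D) (hc : Limits.IsLimit c)
    [∀ (i j : I) (a : i ⟶ j), IsAffineHom (D.map a)] (i₀ : I)
    {X₀ Y₀ : Scheme.{u}} (f₀ : X₀ ⟶ Y₀) (g₀ : Y₀ ⟶ D.obj i₀) [CompactSpace Y₀]
    [LocallyOfFinitePresentation f₀] [QuasiCompact f₀] [QuasiSeparated f₀]
    {X Y : Scheme.{u}} (f : X ⟶ Y) (g : Y ⟶ c.pt) (qY : Y ⟶ Y₀) (qX : X ⟶ X₀)
    (hY : IsPullback qY g g₀ (c.π.app i₀)) (hX : IsPullback qX f f₀ qY)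
    [UniversallyOpen f] :
    ∃ (i : I) (φ : i ⟶ i₀) (Xi Yi : Scheme.{u}) (fi : Xi ⟶ Yi) (gi : Yi ⟶ D.obj i) (pY : Yi ⟶ Y₀)
      (pX : Xi ⟶ X₀), IsPullback pY gi g₀ (D.map φ) ∧ IsPullback pX fi f₀ pY ∧
        UniversallyOpen fi :=
  exists_descend D c hc affineSystemDescent_universallyOpen' i₀ f₀ g₀
    ⟨⟨inferInstance, inferInstance⟩, inferInstance⟩ f g qY qX hY hX inferInstance

end Groth.Agent.H5.Ultra
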